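import Mathlib
import Groth.Prelude.Def_GrQuot

/-!
Closed subschemes of `Proj 𝒜`: surjective graded maps give closed immersions, and the
kernel of `Proj.map` on basic opens.
-/

set_option autoImplicit false
set_option backward.isDefEq.respectTransparency false
universe u

open CategoryTheory CategoryTheory.Limits AlgebraicGeometry HomogeneousLocalization

namespace ProjLib

variable {A σ : Type u} [CommRing A] [SetLike σ A] [AddSubgroupClass σ A]
  (𝒜 : ℕ → σ) [GradedRing 𝒜]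

lemma isAffineOpen_basicOpen {f : A} {d : ℕ} (hf : f ∈ 𝒜 d) (hd : 0 < d) :
    IsAffineOpen (Proj.basicOpen 𝒜 f) := by
  rw [← Proj.opensRange_awayι 𝒜 f hf hd]
  exact isAffineOpen_opensRange _

lemma awayToSection_bijective {f : A} {d : ℕ} (hf : f ∈ 𝒜 d) (hd : 0 < d) :
    Function.Bijective (Proj.awayToSection 𝒜 f).hom :=
  (ConcreteCategory.bijective_of_isIso (Proj.basicOpenIsoAway 𝒜 f hf hd).hom : _)

/-- `D₊(g)_{(f^e/g^d)} = D₊(g f)`. -/
lemma basicOpen_awayToSection {f g : A} {d e : ℕ} (hf : f ∈ 𝒜 d) (hg : g ∈ 𝒜 e)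
    (hd : 0 < d) (he : 0 < e) :
    (Proj 𝒜).basicOpen ((Proj.awayToSection 𝒜 g).hom (Away.isLocalizationElem hg hf)) =
      Proj.basicOpen 𝒜 (g * f) := by
  set x := Away.isLocalizationElem hg hf with hx
  set s := (Proj.awayToSection 𝒜 g).hom x with hs
  rw [Proj.basicOpen_mul]
  have hle : (Proj 𝒜).basicOpen s ≤ Proj.basicOpen 𝒜 g := (Proj 𝒜).basicOpen_le s
  have key : Proj.awayι 𝒜 g hg he ⁻¹ᵁ (Proj 𝒜).basicOpen s = PrimeSpectrum.basicOpen x := by
    have h2 : (Proj.basicOpen 𝒜 g).ι ⁻¹ᵁ (Proj 𝒜).basicOpen s =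
        (Proj.basicOpenIsoSpec 𝒜 g hg he).hom ⁻¹ᵁ PrimeSpectrum.basicOpen x := by
      rw [Proj.basicOpenIsoSpec_hom, Proj.basicOpenToSpec, Scheme.Hom.comp_preimage]
      change _ = (Proj.basicOpen 𝒜 g).toSpecΓ ⁻¹ᵁ (PrimeSpectrum.basicOpen s)
      rw [Scheme.Opens.toSpecΓ_preimage_basicOpen]
    rw [Proj.awayι, Scheme.Hom.comp_preimage, h2, ← Scheme.Hom.comp_preimage, Iso.inv_hom_id]
    rfl
  apply le_antisymm
  · refine le_inf hle ?_
    intro p hp
    have hpg : p ∈ (Proj.awayι 𝒜 g hg he).opensRange := by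
      rw [Proj.opensRange_awayι]; exact hle hp
    obtain ⟨q, rfl⟩ := hpg
    have : q ∈ Proj.awayι 𝒜 g hg he ⁻¹ᵁ Proj.basicOpen 𝒜 f := by
      rw [Proj.awayι_preimage_basicOpen 𝒜 hg he hf hd, ← key]; exact hp
    exact this
  · rintro p ⟨hpg, hpf⟩
    have hpg' : p ∈ (Proj.awayι 𝒜 g hg he).opensRange := by
      rw [Proj.opensRange_awayι]; exact hpg
    obtain ⟨q, rfl⟩ := hpg'
    have : q ∈ Proj.awayι 𝒜 g hg he ⁻¹ᵁ (Proj 𝒜).basicOpen s := by
      rw [key, ← Proj.awayι_preimage_basicOpen 𝒜 hg he hf hd]; exact hpf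
    exact this

section Map

variable {B τ : Type u} [CommRing B] [SetLike τ B] [AddSubgroupClass τ B]
  {ℬ : ℕ → τ} [GradedRing ℬ] (φ : 𝒜 →+*ᵍ ℬ)
  (hφ : HomogeneousIdeal.irrelevant ℬ ≤ (HomogeneousIdeal.irrelevant 𝒜).map φ)

lemma away_map_surjective (hsurj : Function.Surjective φ) {f : A} {d : ℕ} (hf : f ∈ 𝒜 d) :
    Function.Surjective (Away.map φ f : Away 𝒜 f →+* Away ℬ (φ f)) := by
  intro z
  obtain ⟨n, b, hb, rfl⟩ := Away.mk_surjective ℬ (Graded.map_mem φ hf) z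
  obtain ⟨a, rfl⟩ := hsurj b
  refine ⟨Away.mk 𝒜 hf n _ (DirectSum.decompose 𝒜 a (n • d)).2, ?_⟩
  rw [Away.map_mk]
  congr 1
  rw [GradedRingHom.map_directSumDecompose, DirectSum.decompose_of_mem_same ℬ hb]

lemma away_map_mk_eq_zero_iff {f : A} {d : ℕ} (hf : f ∈ 𝒜 d) (n : ℕ) (a : A)
    (ha : a ∈ 𝒜 (n • d)) :
    Away.map φ f (Away.mk 𝒜 hf n a ha) = 0 ↔ ∃ k : ℕ, φ (f ^ k * a) = 0 := by
  rw [Away.map_mk, HomogeneousLocalization.ext_iff_val, Away.val_mk,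
    HomogeneousLocalization.val_zero, Localization.mk_eq_mk', IsLocalization.mk'_eq_zero_iff]
  constructor
  · rintro ⟨⟨_, k, rfl⟩, hk⟩
    exact ⟨k, by rw [map_mul, map_pow]; exact hk⟩
  · rintro ⟨k, hk⟩
    rw [map_mul, map_pow] at hk
    exact ⟨⟨_, k, rfl⟩, hk⟩

lemma irrelevant_le_map_of_surjective (hsurj : Function.Surjective φ) :
    HomogeneousIdeal.irrelevant ℬ ≤ (HomogeneousIdeal.irrelevant 𝒜).map φ := by
  refine (HomogeneousIdeal.toIdeal_irrelevant_le _).mpr fun n hn y hy => ?_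
  obtain ⟨x, rfl⟩ := hsurj y
  have : φ (DirectSum.decompose 𝒜 x n : A) = φ x := by
    rw [GradedRingHom.map_directSumDecompose, DirectSum.decompose_of_mem_same ℬ hy]
  rw [← this]
  refine Ideal.mem_map_of_mem φ ?_
  exact HomogeneousIdeal.mem_irrelevant_of_mem 𝒜 hn (DirectSum.decompose 𝒜 x n).2

lemma isClosedImmersion_pullback_snd {X Y U V : Scheme.{u}} {g : U ⟶ V} {iU : U ⟶ X}
    {iV : V ⟶ Y} {f : X ⟶ Y} (H : IsPullback g iU iV f) (hg : IsClosedImmersion g) :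
    IsClosedImmersion (pullback.snd f iV) := by
  rw [← H.flip.isoPullback_inv_snd]
  infer_instance

lemma isPullback_awayι {f : A} {d : ℕ} (hf : f ∈ 𝒜 d) (hd : 0 < d) :
    IsPullback (Spec.map (CommRingCat.ofHom (Away.map φ f)))
      (Proj.awayι ℬ (φ f) (Graded.map_mem φ hf) hd) (Proj.awayι 𝒜 f hf hd)
      (Proj.map φ hφ) := by
  refine IsOpenImmersion.isPullback _ _ _ _ ?_ ?_
  · exact Proj.awayι_comp_map φ hφ hd f hf
  · rw [Proj.opensRange_awayι, Proj.opensRange_awayι, Proj.map_preimage_basicOpen]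

lemma isClosedImmersion_map (hsurj : Function.Surjective φ) :
    IsClosedImmersion (Proj.map φ hφ) := by
  refine IsZariskiLocalAtTarget.of_openCover (Proj.affineOpenCover 𝒜).openCover fun s => ?_
  exact isClosedImmersion_pullback_snd (isPullback_awayι 𝒜 φ hφ s.2.2 s.1.2)
    (IsClosedImmersion.spec_of_surjective _ (away_map_surjective 𝒜 φ hsurj s.2.2))

lemma map_app_awayToSection {f : A} {d : ℕ} (hf : f ∈ 𝒜 d) (x : Away 𝒜 f) :
    ((Proj.map φ hφ).app (Proj.basicOpen 𝒜 f)).hom ((Proj.awayToSection 𝒜 f).hom x) =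
      (Proj.awayToSection ℬ (φ f)).hom (Away.map φ f x) := by
  have h := Proj.awayToSection_comp_appLE φ hφ hf
  rw [Scheme.Hom.app_eq_appLE]
  exact congrArg (fun (χ : CommRingCat.of (Away 𝒜 f) ⟶ Γ(Proj ℬ, Proj.basicOpen ℬ (φ f))) =>
    χ.hom x) h

end Map

end ProjLib
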