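import Mathlib

/-! # nonemptiness of basic opens of Proj -/

set_option autoImplicit false
set_option backward.isDefEq.respectTransparency false
universe u

open AlgebraicGeometry HomogeneousLocalization

namespace ProjLib

variable {A σ : Type u} [CommRing A] [SetLike σ A] [AddSubgroupClass σ A]
  (𝒜 : ℕ → σ) [GradedRing 𝒜]

lemma exists_mem_basicOpen {f : A} {d : ℕ} (hf : f ∈ 𝒜 d) (hd : 0 < d) (hn : ¬ IsNilpotent f) :
    ∃ y : Proj 𝒜, y ∈ Proj.basicOpen 𝒜 f := by
  haveI : Nontrivial (Away 𝒜 f) := by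
    refine ⟨⟨1, 0, fun e => hn ?_⟩⟩
    have := congrArg HomogeneousLocalization.val e
    rw [HomogeneousLocalization.val_one, HomogeneousLocalization.val_zero] at this
    exact (IsLocalization.subsingleton_iff (M := Submonoid.powers f)
      (S := Localization (Submonoid.powers f))).mp (subsingleton_of_zero_eq_one this.symm)
  obtain ⟨q⟩ : Nonempty (PrimeSpectrum (Away 𝒜 f)) := inferInstance
  refine ⟨Proj.awayι 𝒜 f hf hd q, ?_⟩
  rw [← Proj.opensRange_awayι 𝒜 f hf hd]
  exact ⟨q, rfl⟩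

lemma exists_homogeneous_basicOpen (x : Proj 𝒜) {o : Set (Proj 𝒜)} (ho : IsOpen o) (hxo : x ∈ o) :
    ∃ (h : A) (d : ℕ), h ∈ 𝒜 d ∧ 0 < d ∧ x ∈ Proj.basicOpen 𝒜 h ∧ (Proj.basicOpen 𝒜 h : Set (Proj 𝒜)) ⊆ o := by
  classical
  obtain ⟨_, ⟨f, rfl⟩, hxf, hfo⟩ :=
    (ProjectiveSpectrum.isTopologicalBasis_basic_opens 𝒜).exists_subset_of_mem_open hxo ho
  obtain ⟨d, hd, g, hgd, hgx⟩ : ∃ d, 0 < d ∧ ∃ g ∈ 𝒜 d, g ∉ x.asHomogeneousIdeal := by
    by_contra! hno
    exact x.not_irrelevant_le ((HomogeneousIdeal.toIdeal_irrelevant_le _).mpr fun i hi a ha => hno i hi a ha)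
  obtain ⟨j, hj⟩ : ∃ j, (DirectSum.decompose 𝒜 f j : A) ∉ x.asHomogeneousIdeal := by
    by_contra! hno
    apply hxf
    rw [← DirectSum.sum_support_decompose 𝒜 f]
    exact Ideal.sum_mem _ fun j _ => hno j
  refine ⟨g * (DirectSum.decompose 𝒜 f j : A), d + j,
    SetLike.mul_mem_graded hgd (DirectSum.decompose 𝒜 f j).2, Nat.add_pos_left hd j,
    fun hm => (x.isPrime.mem_or_mem hm).elim hgx hj, fun y hy => hfo ?_⟩
  rw [Proj.basicOpen_mul] at hy
  have : y ∈ Proj.basicOpen 𝒜 f := by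
    rw [Proj.basicOpen_eq_iSup_proj 𝒜 f]
    exact TopologicalSpace.Opens.mem_iSup.mpr ⟨j, hy.2⟩
  exact this

lemma mul_top_components {f g : A} (hf : f ≠ 0) (hg : g ≠ 0) (hfg : f * g = 0) :
    ∃ i j, (DirectSum.decompose 𝒜 f i : A) ≠ 0 ∧ (DirectSum.decompose 𝒜 g j : A) ≠ 0 ∧
      (DirectSum.decompose 𝒜 f i : A) * (DirectSum.decompose 𝒜 g j : A) = 0 := by
  classical
  have hsf : (DirectSum.decompose 𝒜 f).support.Nonempty := by
    by_contra h
    rw [Finset.not_nonempty_iff_eq_empty] at h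
    exact hf (by rw [← DirectSum.sum_support_decompose 𝒜 f, h, Finset.sum_empty])
  have hsg : (DirectSum.decompose 𝒜 g).support.Nonempty := by
    by_contra h
    rw [Finset.not_nonempty_iff_eq_empty] at h
    exact hg (by rw [← DirectSum.sum_support_decompose 𝒜 g, h, Finset.sum_empty])
  set i := (DirectSum.decompose 𝒜 f).support.max' hsf
  set j := (DirectSum.decompose 𝒜 g).support.max' hsg
  refine ⟨i, j, fun h => DFinsupp.mem_support_iff.mp (Finset.max'_mem _ hsf) (Subtype.ext (by simpa using h)),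
    fun h => DFinsupp.mem_support_iff.mp (Finset.max'_mem _ hsg) (Subtype.ext (by simpa using h)), ?_⟩
  have h0 : (DirectSum.decompose 𝒜 (f * g) (i + j) : A) = 0 := by
    rw [hfg, DirectSum.decompose_zero]; rfl
  rw [DirectSum.decompose_mul, DirectSum.coe_mul_apply] at h0
  rw [Finset.sum_eq_single (i, j)] at h0
  · exact h0
  · rintro ⟨a, b⟩ hab hne
    simp only [Finset.mem_filter, Finset.mem_product] at hab
    have ha := Finset.le_max' _ a hab.1.1
    have hb := Finset.le_max' _ b hab.1.2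
    refine absurd ?_ hne
    obtain ⟨ha', hb'⟩ : a = i ∧ b = j := by omega
    rw [ha', hb']
  · intro h
    refine absurd ?_ h
    rw [Finset.mem_filter, Finset.mem_product]
    exact ⟨⟨Finset.max'_mem _ hsf, Finset.max'_mem _ hsg⟩, rfl⟩

end ProjLib
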